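import Mathlib.Algebra.Category.ModuleCat.Presheaf.Pushforward
import Mathlib.Algebra.Category.ModuleCat.Presheaf.Monoidal
import Mathlib.Algebra.DirectSum.Module
import Mathlib.LinearAlgebra.DirectSum.TensorProduct
import Mathlib.CategoryTheory.Comma.Over.Basic

/-!
Extension by zero (arbitrary sheaves of rings) of presheaves of modules along `Over U ⥤ C`, pointwise a direct sum.
-/

set_option backward.isDefEq.respectTransparency false
set_option linter.style.haveILetI false
set_option autoImplicit false

universe u

open CategoryTheory Category Limits Opposite DirectSum TensorProduct MonoidalCategory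

namespace Groth.Agent.RingExtZero

variable {C : Type u} [SmallCategory C] (R : Cᵒᵖ ⥤ RingCat.{u}) (U : C)

/-- presheaves of modules on `C` -/
abbrev PM := PresheafOfModules.{u} (R)

/-- presheaves of modules on `Over U` -/
abbrev PMOver := PresheafOfModules.{u} ((Over.forget U).op ⋙ R)

/-- restriction -/
noncomputable abbrev res : PM R ⥤ PMOver R U :=
  PresheafOfModules.pushforward (F := Over.forget U) (R := R)
    (𝟙 ((Over.forget U).op ⋙ R))

variable {R U} (P : PMOver R U)

/-- `P(g)` for `g : W ⟶ U` -/
abbrev fib (W : Cᵒᵖ) (g : W.unop ⟶ U) : Type u := P.obj (op (Over.mk g))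

instance (W : Cᵒᵖ) (g : W.unop ⟶ U) : Module (R.obj W : Type u) (fib P W g) :=
  (P.obj (op (Over.mk g))).isModule

variable {P}

/-- the morphism of `Over U` above `a` -/
abbrev overHom {W W' : Cᵒᵖ} (a : W ⟶ W') (g : W.unop ⟶ U) :
    op (Over.mk g) ⟶ op (Over.mk (a.unop ≫ g)) :=
  (Over.homMk a.unop : Over.mk (a.unop ≫ g) ⟶ Over.mk g).op

/-- the value `⨁_{g : W ⟶ U} P(g)` -/
abbrev val (P : PMOver R U) (W : Cᵒᵖ) : Type u := ⨁ g : (W.unop ⟶ U), fib P W g

open Classical in
/-- the inclusion of a summand -/
noncomputable def incl (W : Cᵒᵖ) (g : W.unop ⟶ U) : fib P W g →ₗ[(R.obj W : Type u)] val P W :=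
  DirectSum.lof (R.obj W : Type u) (W.unop ⟶ U) (fib P W) g

open Classical in
/-- linear maps out of the direct sum -/
noncomputable def desc {W : Cᵒᵖ} {N : Type u} [AddCommGroup N] (f : ∀ g : W.unop ⟶ U, fib P W g →+ N) :
    val P W →+ N :=
  DirectSum.toAddMonoid f

open Classical in
@[simp]
lemma desc_incl {W : Cᵒᵖ} {N : Type u} [AddCommGroup N] (f : ∀ g : W.unop ⟶ U, fib P W g →+ N)
    (g : W.unop ⟶ U) (x : fib P W g) : desc f (incl (P := P) W g x) = f g x :=
  DirectSum.toAddMonoid_of f g x

open Classical in
lemma hom_ext {W : Cᵒᵖ} {N : Type u} [AddCommGroup N] {f f' : val P W →+ N}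
    (h : ∀ (g : W.unop ⟶ U) (x : fib P W g), f (incl (P := P) W g x) = f' (incl (P := P) W g x)) : f = f' :=
  DirectSum.addHom_ext h

/-- restriction maps between fibres -/
noncomputable def pmap (P : PMOver R U) {W W' : Cᵒᵖ} (a : W ⟶ W') (g : W.unop ⟶ U) (g' : W'.unop ⟶ U)
    (h : a.unop ≫ g = g') : fib P W g →+ fib P W' g' :=
  (P.presheaf.map (Over.homMk a.unop h : Over.mk g' ⟶ Over.mk g).op).hom

lemma pmap_smul {W W' : Cᵒᵖ} (a : W ⟶ W') (g : W.unop ⟶ U) (g' : W'.unop ⟶ U) (h : a.unop ≫ g = g')
    (r : (R.obj W : Type u)) (x : fib P W g) :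
    pmap P a g g' h (r • x) = (R.map a).hom r • pmap P a g g' h x :=
  P.map_smul (Over.homMk a.unop h : Over.mk g' ⟶ Over.mk g).op r x

lemma pmap_id {W : Cᵒᵖ} (g : W.unop ⟶ U) (h : (𝟙 W : W ⟶ W).unop ≫ g = g) (x : fib P W g) :
    pmap P (𝟙 W) g g h x = x :=
  ConcreteCategory.congr_hom (P.presheaf.map_id (op (Over.mk g))) x

lemma pmap_comp {W W' W'' : Cᵒᵖ} (a : W ⟶ W') (b : W' ⟶ W'') (g : W.unop ⟶ U) (g' : W'.unop ⟶ U)
    (g'' : W''.unop ⟶ U) (h : a.unop ≫ g = g') (h' : b.unop ≫ g' = g'')
    (h'' : (a ≫ b).unop ≫ g = g'') (x : fib P W g) :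
    pmap P (a ≫ b) g g'' h'' x = pmap P b g' g'' h' (pmap P a g g' h x) :=
  ConcreteCategory.congr_hom (P.presheaf.map_comp (Over.homMk a.unop h : Over.mk g' ⟶ Over.mk g).op
    (Over.homMk b.unop h' : Over.mk g'' ⟶ Over.mk g').op) x

/-- components of a morphism on fibres -/
noncomputable def appFib {Q : PMOver R U} (t : P ⟶ Q) (W : Cᵒᵖ) (g : W.unop ⟶ U) :
    fib P W g →ₗ[(R.obj W : Type u)] fib Q W g where
  toFun := (t.app (op (Over.mk g))).hom
  map_add' := (t.app (op (Over.mk g))).hom.map_add
  map_smul' r x := (t.app (op (Over.mk g))).hom.map_smul r x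

lemma appFib_pmap {Q : PMOver R U} (t : P ⟶ Q) {W W' : Cᵒᵖ} (a : W ⟶ W') (g : W.unop ⟶ U)
    (g' : W'.unop ⟶ U) (h : a.unop ≫ g = g') (x : fib P W g) :
    appFib t W' g' (pmap P a g g' h x) = pmap Q a g g' h (appFib t W g x) :=
  PresheafOfModules.naturality_apply t (Over.homMk a.unop h : Over.mk g' ⟶ Over.mk g).op x

/-- restriction maps -/
noncomputable def transition {W W' : Cᵒᵖ} (a : W ⟶ W') : val P W →+ val P W' :=
  desc fun g => (incl W' (a.unop ≫ g)).toAddMonoidHom.comp (pmap P a g _ rfl)

lemma transition_incl {W W' : Cᵒᵖ} (a : W ⟶ W') (g : W.unop ⟶ U) (g' : W'.unop ⟶ U)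
    (h : a.unop ≫ g = g') (x : fib P W g) :
    transition a (incl (P := P) W g x) = incl (P := P) W' g' (pmap P a g g' h x) := by
  subst h
  exact desc_incl _ g x

lemma transition_smul {W W' : Cᵒᵖ} (a : W ⟶ W') (r : (R.obj W : Type u)) (m : val P W) :
    transition a (r • m) = (R.map a).hom r • transition a m := by
  have h : (transition a).comp (DistribSMul.toAddMonoidHom (val P W) r) =
      (DistribSMul.toAddMonoidHom (val P W') ((R.map a).hom r)).comp (transition a) := by
    refine hom_ext fun g x => ?_
    simp only [AddMonoidHom.comp_apply, DistribSMul.toAddMonoidHom_apply]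
    rw [← map_smul, transition_incl a g _ rfl, transition_incl a g _ rfl, ← map_smul]
    exact congrArg _ (pmap_smul a g _ rfl r x)
  exact DFunLike.congr_fun h m

variable (P)

/-- the underlying presheaf of abelian groups -/
noncomputable def extZeroPresheaf : Cᵒᵖ ⥤ AddCommGrpCat.{u} where
  obj W := AddCommGrpCat.of (val P W)
  map a := AddCommGrpCat.ofHom (transition a)
  map_id W := by
    refine AddCommGrpCat.hom_ext (hom_ext fun g x => ?_)
    change transition (𝟙 W) (incl (P := P) W g x) = incl (P := P) W g x
    rw [transition_incl (𝟙 W) g g (id_comp g), pmap_id]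
  map_comp {W W' W''} a b := by
    refine AddCommGrpCat.hom_ext (hom_ext fun g x => ?_)
    change transition (a ≫ b) (incl (P := P) W g x) = transition b (transition a (incl (P := P) W g x))
    rw [transition_incl a g _ rfl, transition_incl b _ _ rfl,
      transition_incl (a ≫ b) g (b.unop ≫ a.unop ≫ g) (by simp), pmap_comp a b g _ _ rfl rfl]

noncomputable instance (W : Cᵒᵖ) :
    Module ((R).obj W) ((extZeroPresheaf P).obj W) :=
  inferInstanceAs (Module (R.obj W : Type u) (val P W))

/-- extension by zero of a presheaf of modules -/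
noncomputable def extZeroObj : PM R :=
  PresheafOfModules.ofPresheaf (extZeroPresheaf P) fun _ _ a r m => transition_smul a r m

variable {P} {Q : PMOver R U}

/-- underlying map of `extZeroMap` -/
noncomputable def mapAux (t : P ⟶ Q) (W : Cᵒᵖ) : val P W →+ val Q W :=
  desc fun g => (incl W g).toAddMonoidHom.comp (appFib t W g).toAddMonoidHom

lemma mapAux_incl (t : P ⟶ Q) (W : Cᵒᵖ) (g : W.unop ⟶ U) (x : fib P W g) :
    mapAux t W (incl (P := P) W g x) = incl (P := Q) W g (appFib t W g x) :=
  desc_incl _ g x

lemma mapAux_smul (t : P ⟶ Q) (W : Cᵒᵖ) (r : (R.obj W : Type u)) (x : val P W) :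
    mapAux t W (r • x) = r • mapAux t W x := by
  have h : (mapAux t W).comp (DistribSMul.toAddMonoidHom (val P W) r) =
      (DistribSMul.toAddMonoidHom (val Q W) r).comp (mapAux t W) := by
    refine hom_ext fun g y => ?_
    simp only [AddMonoidHom.comp_apply, DistribSMul.toAddMonoidHom_apply]
    rw [← map_smul, mapAux_incl, mapAux_incl, ← map_smul, ← map_smul]
  exact DFunLike.congr_fun h x

/-- functoriality -/
noncomputable def extZeroMap (t : P ⟶ Q) : extZeroObj P ⟶ extZeroObj Q :=
  PresheafOfModules.homMk
    { app := fun W => AddCommGrpCat.ofHom (mapAux t W)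
      naturality := fun W W' a => by
        refine AddCommGrpCat.hom_ext (hom_ext fun g x => ?_)
        change mapAux t W' (transition a (incl (P := P) W g x)) = transition a (mapAux t W (incl (P := P) W g x))
        rw [transition_incl a g _ rfl, mapAux_incl, mapAux_incl, transition_incl a g _ rfl, appFib_pmap] }
    fun W r x => mapAux_smul t W r x

lemma extZeroMap_apply (t : P ⟶ Q) (W : Cᵒᵖ) (x : val P W) : (extZeroMap t).app W x = mapAux t W x := rfl

lemma extZeroObj_hom_ext {G : PM R} {f f' : extZeroObj P ⟶ G}
    (h : ∀ (W : Cᵒᵖ) (g : W.unop ⟶ U) (x : fib P W g), f.app W (incl (P := P) W g x) = f'.app W (incl (P := P) W g x)) :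
    f = f' :=
  (PresheafOfModules.toPresheaf _).map_injective
    (NatTrans.ext (funext fun W => AddCommGrpCat.hom_ext (hom_ext (h W))))

variable (R U) in
/-- extension by zero -/
noncomputable def extZeroFun : PMOver R U ⥤ PM R where
  obj P := extZeroObj P
  map t := extZeroMap t
  map_id P := extZeroObj_hom_ext fun W g x => mapAux_incl (𝟙 P) W g x
  map_comp {P P' P''} t t' := extZeroObj_hom_ext fun W g x => by
    refine (mapAux_incl (t ≫ t') W g x).trans ?_
    exact ((congrArg (mapAux t' W) (mapAux_incl t W g x)).trans (mapAux_incl t' W g _)).symm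

/-- underlying map of the transpose -/
noncomputable def descAux {G : PM R} (t : P ⟶ (res R U).obj G) (W : Cᵒᵖ) : val P W →+ (G.presheaf.obj W) :=
  desc fun g => (((PresheafOfModules.toPresheaf _).map t).app (op (Over.mk g))).hom

lemma descAux_incl {G : PM R} (t : P ⟶ (res R U).obj G) (W : Cᵒᵖ) (g : W.unop ⟶ U) (x : fib P W g) :
    descAux t W (incl (P := P) W g x) = t.app (op (Over.mk g)) x :=
  desc_incl _ g x

/-- the transpose -/
noncomputable def descHom {G : PM R} (t : P ⟶ (res R U).obj G) : extZeroObj P ⟶ G :=
  letI : ∀ W, Module (R.obj W : Type u) (G.presheaf.obj W) := fun W => (G.obj W).isModule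
  PresheafOfModules.homMk
    { app := fun W => AddCommGrpCat.ofHom (descAux t W)
      naturality := fun W W' a => by
        refine AddCommGrpCat.hom_ext (hom_ext fun g x => ?_)
        change descAux t W' (transition a (incl (P := P) W g x)) = G.presheaf.map a (descAux t W (incl (P := P) W g x))
        rw [transition_incl a g _ rfl, descAux_incl, descAux_incl]
        exact PresheafOfModules.naturality_apply t (overHom a g) x }
    fun W r x => by
      change descAux t W (r • show val P W from x) = r • descAux t W x
      have h : (descAux t W).comp (DistribSMul.toAddMonoidHom (val P W) r) =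
          (DistribSMul.toAddMonoidHom (G.presheaf.obj W) r).comp (descAux t W) := by
        refine hom_ext fun g y => ?_
        simp only [AddMonoidHom.comp_apply, DistribSMul.toAddMonoidHom_apply]
        rw [← map_smul, descAux_incl, descAux_incl]
        exact (t.app (op (Over.mk g))).hom.map_smul r y
      exact DFunLike.congr_fun h x

lemma descHom_incl {G : PM R} (t : P ⟶ (res R U).obj G) (W : Cᵒᵖ) (g : W.unop ⟶ U) (x : fib P W g) :
    (descHom t).app W (incl (P := P) W g x) = t.app (op (Over.mk g)) x :=
  descAux_incl t W g x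

/-- the inclusion of the summand of the structure map of `V` -/
noncomputable def inclV (P : PMOver R U) (V : (Over U)ᵒᵖ) : P.presheaf.obj V →+ val P (op V.unop.left) :=
  (incl (P := P) (op V.unop.left) V.unop.hom).toAddMonoidHom

/-- the unit -/
noncomputable def unitHom (P : PMOver R U) : P ⟶ (res R U).obj (extZeroObj P) :=
  PresheafOfModules.homMk
    { app := fun V => AddCommGrpCat.ofHom (inclV P V)
      naturality := fun V V' a => by
        ext x
        exact (transition_incl (W := op V.unop.left) (W' := op V'.unop.left) a.unop.left.op V.unop.hom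
          V'.unop.hom (Over.w a.unop) x).symm }
    fun V r x => (incl (P := P) (op V.unop.left) V.unop.hom).map_smul r x

lemma unitHom_apply (P : PMOver R U) (W : Cᵒᵖ) (g : W.unop ⟶ U) (x : fib P W g) :
    (unitHom P).app (op (Over.mk g)) x = incl (P := P) W g x := rfl

lemma unitHom_injective (P : PMOver R U) (V : (Over U)ᵒᵖ) : Function.Injective ((unitHom P).app V) := by
  classical
  exact DirectSum.of_injective (β := fib P (op V.unop.left)) V.unop.hom

variable (R U) in
/-- extension by zero is left adjoint to restriction -/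
noncomputable def extZeroAdj : extZeroFun R U ⊣ res R U :=
  Adjunction.mkOfHomEquiv
    { homEquiv := fun P G =>
        { toFun := fun f => unitHom P ≫ (res R U).map f
          invFun := fun t => descHom t
          left_inv := fun f => extZeroObj_hom_ext fun W g x => descHom_incl _ W g x
          right_inv := fun t => by
            refine PresheafOfModules.hom_ext fun V => ?_
            ext x
            exact descHom_incl t (op V.unop.left) V.unop.hom x }
      homEquiv_naturality_left_symm := fun {P P' G} t s => extZeroObj_hom_ext fun W g x => by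
        refine (descHom_incl (t ≫ s) W g x).trans ?_
        exact ((congrArg ((descHom s).app W) (mapAux_incl t W g x)).trans (descHom_incl s W g _)).symm
      homEquiv_naturality_right := fun f g => by
        simp only [Equiv.coe_fn_mk, Functor.map_comp]
        exact (Category.assoc _ _ _).symm }

lemma extZeroMap_injective (t : P ⟶ Q) (ht : ∀ V, Function.Injective (t.app V)) (W : Cᵒᵖ) :
    Function.Injective ((extZeroMap t).app W) := by
  classical
  intro x y h
  let pr : ∀ (S : PMOver R U) (g : W.unop ⟶ U), val S W →ₗ[(R.obj W : Type u)] fib S W g := fun S g =>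
    DirectSum.component (R.obj W : Type u) (W.unop ⟶ U) (fib S W) g
  refine DirectSum.ext_component (R.obj W : Type u) fun g => ht (op (Over.mk g)) ?_
  have key : ∀ z : val P W, pr Q g (mapAux t W z) = appFib t W g (pr P g z) := by
    refine DFunLike.congr_fun (hom_ext (f := (pr Q g).toAddMonoidHom.comp (mapAux t W))
      (f' := (appFib t W g).toAddMonoidHom.comp (pr P g).toAddMonoidHom) fun g' y => ?_)
    simp only [AddMonoidHom.comp_apply, LinearMap.toAddMonoidHom_coe, mapAux_incl]
    by_cases hg : g' = g
    · subst hg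
      simp [pr, incl, DirectSum.component.lof_self]
    · simp [pr, incl, DirectSum.component.of, hg]
  exact (key x).symm.trans ((congrArg (pr Q g) h).trans (key y))


end Groth.Agent.RingExtZero
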