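import Groth.Agent.RingExtZero.Presheaf
import Groth.Prelude.Def_ModSite
import Mathlib.CategoryTheory.Abelian.Exact
import Mathlib.Algebra.Homology.ShortComplex.ExactFunctor
import Mathlib.Algebra.Category.ModuleCat.Sheaf.PullbackContinuous
import Mathlib.Algebra.Category.ModuleCat.Sheaf.PushforwardContinuous
import Mathlib.Algebra.Category.ModuleCat.Sheaf.Limits
import Mathlib.Algebra.Category.ModuleCat.Sheaf.Colimits
import Mathlib.Algebra.Category.ModuleCat.Sheaf.Abelian
import Mathlib.Algebra.Category.ModuleCat.Presheaf.EpiMono
import Mathlib.CategoryTheory.Sites.PreservesLocallyBijective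
import Mathlib.CategoryTheory.Adjunction.Limits

/-!
Extension by zero for sheaves of modules over an arbitrary sheaf of rings: exact and faithful.
-/

set_option backward.isDefEq.respectTransparency false
set_option backward.isDefEq.respectTransparency.types false
set_option linter.style.haveILetI false
set_option autoImplicit false
set_option maxHeartbeats 1000000

universe u

open CategoryTheory Category Limits Opposite

namespace Groth.Agent.RingExtZero

variable {C : Type u} [SmallCategory C] {J : GrothendieckTopology C} (A : Sheaf J RingCat.{u}) (U : C)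

/-- sheafification -/
noncomputable abbrev Sh : PM A.obj ⥤ SheafOfModules.{u} A :=
  PresheafOfModules.sheafification.{u} (𝟙 A.obj)

/-- the forgetful functor on the slice -/
noncomputable abbrev toPMOver : SheafOfModules.{u} (A.over U) ⥤ PMOver A.obj U :=
  SheafOfModules.forget (A.over U)

/-- the ring map of the restriction -/
noncomputable abbrev overRingHom : A.over U ⟶
    ((Over.forget U).sheafPushforwardContinuous RingCat.{u} (J.over U) J).obj A :=
  𝟙 _

/-- the chosen left adjoint -/
noncomputable abbrev ext₀ : SheafOfModules.{u} (A.over U) ⥤ SheafOfModules.{u} A :=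
  SheafOfModules.pullback.{u} (overRingHom A U)

/-- the chosen presheaf pullback is the explicit extension by zero -/
noncomputable def presheafIso :
    PresheafOfModules.pullback.{u} (F := Over.forget U) (R := A.obj)
      (overRingHom A U).hom ≅ extZeroFun A.obj U :=
  Adjunction.leftAdjointUniq
    (PresheafOfModules.pullbackPushforwardAdjunction.{u} (F := Over.forget U) (R := A.obj)
      (overRingHom A U).hom) (extZeroAdj A.obj U)

/-- `j_!` is the sheafified pointwise direct sum -/
noncomputable def extZeroIso : ext₀ A U ≅ toPMOver A U ⋙ extZeroFun A.obj U ⋙ Sh A :=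
  SheafOfModules.pullbackIso.{u} (overRingHom A U) ≪≫
    Functor.isoWhiskerLeft (toPMOver A U) (Functor.isoWhiskerRight (presheafIso A U) (Sh A))

/-- the adjunction -/
noncomputable def ext₀Adj : ext₀ A U ⊣ SheafOfModules.overFunctor.{u} A U :=
  SheafOfModules.pullbackPushforwardAdjunction.{u} (overRingHom A U)

theorem preservesFiniteColimits_ext₀ : PreservesFiniteColimits (ext₀ A U) := by
  haveI : PreservesColimitsOfSize.{u, u} (ext₀ A U) := (ext₀Adj A U).leftAdjoint_preservesColimits
  haveI : PreservesColimitsOfSize.{0, 0} (ext₀ A U) :=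
    preservesSmallestColimits_of_preservesColimits _
  infer_instance

theorem preservesFiniteLimits_ext₀ : PreservesFiniteLimits (ext₀ A U) := by
  haveI : (extZeroFun A.obj U).PreservesMonomorphisms :=
    ⟨fun {P Q} t ht => by
      have ht' : ∀ V, Function.Injective (t.app V) := fun V => PresheafOfModules.injective_of_mono t V
      exact PresheafOfModules.mono_of_injective fun W => extZeroMap_injective t ht' W⟩
  haveI : PreservesFiniteLimits (Sh A) :=
    inferInstanceAs (PreservesFiniteLimits (PresheafOfModules.sheafification.{u} (𝟙 A.obj)))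
  haveI : PreservesFiniteLimits (toPMOver A U) :=
    inferInstanceAs (PreservesFiniteLimits (SheafOfModules.forget (A.over U)))
  have hmono : ∀ {P Q : SheafOfModules.{u} (A.over U)} (f : P ⟶ Q), Mono f → Mono ((ext₀ A U).map f) := by
    intro P Q f hf
    haveI : Mono ((toPMOver A U).map f) := (toPMOver A U).map_mono f
    haveI : Mono ((extZeroFun A.obj U).map ((toPMOver A U).map f)) := (extZeroFun A.obj U).map_mono _
    haveI : Mono ((toPMOver A U ⋙ extZeroFun A.obj U ⋙ Sh A).map f) := (Sh A).map_mono _
    rw [NatIso.naturality_1 (extZeroIso A U).symm f |>.symm]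
    infer_instance
  haveI : PreservesFiniteColimits (ext₀ A U) := preservesFiniteColimits_ext₀ A U
  haveI := preservesBinaryBiproducts_of_preservesBinaryCoproducts (ext₀ A U)
  haveI := Functor.additive_of_preservesBinaryBiproducts (ext₀ A U)
  have h3 := (((ext₀ A U).preservesFiniteColimits_tfae.out 3 0 rfl rfl).1
    (inferInstance : PreservesFiniteColimits (ext₀ A U)))
  exact (((ext₀ A U).exact_tfae.out 0 3 rfl rfl).1 fun S hS =>
    { exact := (h3 S hS).1, mono_f := hmono S.f hS.mono_f, epi_g := (h3 S hS).2 }).1

theorem faithful_ext₀ : (ext₀ A U).Faithful := by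
  constructor
  intro P Q s t hst
  refine SheafOfModules.hom_ext (PresheafOfModules.hom_ext fun V => ?_)
  ext x
  obtain ⟨V⟩ := V
  let W : Cᵒᵖ := op V.left
  let s' := (toPMOver A U).map s
  let t' := (toPMOver A U).map t
  let u := (PresheafOfModules.sheafificationAdjunction.{u} (R := A) (𝟙 A.obj)).unit
  let η := u.app (extZeroObj ((toPMOver A U).obj Q))
  have hE : (Sh A).map ((extZeroFun A.obj U).map s') = (Sh A).map ((extZeroFun A.obj U).map t') := by
    have h1 := (extZeroIso A U).hom.naturality s
    have h2 := (extZeroIso A U).hom.naturality t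
    rw [hst, h2, cancel_epi] at h1
    exact h1.symm
  have hη : (extZeroFun A.obj U).map s' ≫ η = (extZeroFun A.obj U).map t' ≫ η := by
    exact (u.naturality _).trans ((congrArg (fun z => u.app _ ≫ (SheafOfModules.forget A ⋙
      PresheafOfModules.restrictScalars (𝟙 A.obj)).map z) hE).trans (u.naturality _).symm)
  have hx := ConcreteCategory.congr_hom (congrArg (fun m => PresheafOfModules.Hom.app m W) hη)
    (incl (P := (toPMOver A U).obj P) W V.hom x)
  haveI : Presheaf.IsLocallyInjective J ((PresheafOfModules.toPresheaf _).map η) :=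
    GrothendieckTopology.W.isLocallyInjective
      (J.W_toSheafify (extZeroObj ((toPMOver A U).obj Q)).presheaf)
  have hcov := Presheaf.equalizerSieve_mem J ((PresheafOfModules.toPresheaf _).map η)
    (incl (P := (toPMOver A U).obj Q) W V.hom (appFib s' W V.hom x))
    (incl (P := (toPMOver A U).obj Q) W V.hom (appFib t' W V.hom x))
    (((congrArg (η.app W) (mapAux_incl s' W V.hom x)).symm.trans hx).trans
      (congrArg (η.app W) (mapAux_incl t' W V.hom x)))
  have hsep := ((isSheaf_iff_isSheaf_of_type (J.over U) _).mp
    (((sheafCompose (J.over U) (forget AddCommGrpCat.{u})).obj ⟨_, Q.isSheaf⟩).property)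
      _ (J.overEquiv_symm_mem_over V _ hcov)).isSeparatedFor
  refine hsep.ext fun Y q hq => ?_
  have hq' : transition (P := (toPMOver A U).obj Q) q.left.op
      (incl (P := (toPMOver A U).obj Q) W V.hom (appFib s' W V.hom x)) = transition q.left.op
      (incl (P := (toPMOver A U).obj Q) W V.hom (appFib t' W V.hom x)) := hq
  rw [transition_incl q.left.op V.hom Y.hom (Over.w q), transition_incl q.left.op V.hom Y.hom (Over.w q)] at hq'
  classical
  exact DirectSum.of_injective (β := fib ((toPMOver A U).obj Q) (op Y.left)) Y.hom hq'

theorem overFunctor_leftAdjoint :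
    (SheafOfModules.overFunctor.{u} A U).IsRightAdjoint ∧
    ∀ (L : SheafOfModules.{u} (A.over U) ⥤ SheafOfModules.{u} A) (_ : L ⊣ SheafOfModules.overFunctor.{u} A U),
      PreservesFiniteLimits L ∧ PreservesFiniteColimits L ∧ L.Faithful := by
  refine ⟨⟨_, ⟨ext₀Adj A U⟩⟩, fun L adj => ?_⟩
  let e := Adjunction.leftAdjointUniq (ext₀Adj A U) adj
  haveI := preservesFiniteLimits_ext₀ A U
  haveI := preservesFiniteColimits_ext₀ A U
  haveI := faithful_ext₀ A U
  exact ⟨preservesFiniteLimits_of_natIso e, preservesFiniteColimits_of_natIso e, Functor.Faithful.of_iso e⟩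

end Groth.Agent.RingExtZero
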